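import Groth.Agent.EqInt.K590.GenRed
import Groth.Agent.AlgGrp.K404.GeoInt
import Groth.Agent.S4664
import Groth.Agent.EqInt.K957.CartDesc
import Groth.Agent.EqInt.K957.Pts

/-!
# Equivariant envelopes induce envelopes of mixed spaces

`K590.Envel.exists_point`: points with trivial residue field extension of the induced morphism of
principal bundle quotients.
-/

set_option autoImplicit false
universe u
open CategoryTheory CategoryTheory.Limits MonoidalCategory CartesianMonoidalCategory MonObj GrpObj AlgebraicGeometry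

namespace K590.Envel

open K957

theorem exists_of_isPullback {P X Y Z : Scheme.{u}} {f : P ⟶ X} {g : P ⟶ Y} {h : X ⟶ Z} {k : Y ⟶ Z}
    (H : IsPullback f g h k) (x : X) (y : Y) (hxy : h x = k y) : ∃ z : P, f z = x ∧ g z = y := by
  obtain ⟨z, h1, h2⟩ := Scheme.Pullback.exists_preimage_pullback x y hxy
  refine ⟨H.isoPullback.inv z, ?_, ?_⟩
  · rw [ResIso.app_eq H.isoPullback_inv_fst, h1]
  · rw [ResIso.app_eq H.isoPullback_inv_snd, h2]

theorem comm_app {A B C D : Scheme.{u}} {f : A ⟶ B} {g : A ⟶ C} {h : B ⟶ D} {k : C ⟶ D}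
    (w : f ≫ h = g ≫ k) (x : A) : h (f x) = k (g x) := by
  rw [ResIso.app_eq w, Scheme.Hom.comp_apply]

/-- restriction of a cartesian square to an open of the base -/
theorem exists_restrict {A B C D : Scheme.{u}} {F : A ⟶ B} {g : A ⟶ C} {q : B ⟶ D} {p : C ⟶ D}
    (H : IsPullback F g q p) (V : D.Opens) :
    ∃ g' : (F ⁻¹ᵁ (q ⁻¹ᵁ V)).toScheme ⟶ (p ⁻¹ᵁ V).toScheme,
      IsPullback (F ∣_ (q ⁻¹ᵁ V)) g' (q ∣_ V) (p ∣_ V) := by
  have H1 := (isPullback_morphismRestrict F (q ⁻¹ᵁ V)).paste_vert H
  have H2 := isPullback_morphismRestrict p V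
  rw [← morphismRestrict_ι] at H1
  let g' : (F ⁻¹ᵁ (q ⁻¹ᵁ V)).toScheme ⟶ (p ⁻¹ᵁ V).toScheme :=
    H2.lift (F ∣_ (q ⁻¹ᵁ V) ≫ q ∣_ V) ((F ⁻¹ᵁ (q ⁻¹ᵁ V)).ι ≫ g) (by rw [Category.assoc]; exact H1.w)
  have e1 : g' ≫ (p ∣_ V) = F ∣_ (q ⁻¹ᵁ V) ≫ q ∣_ V := H2.lift_fst _ _ _
  have e2 : g' ≫ (p ⁻¹ᵁ V).ι = (F ⁻¹ᵁ (q ⁻¹ᵁ V)).ι ≫ g := H2.lift_snd _ _ _
  rw [← e2] at H1
  exact ⟨g', IsPullback.of_bot H1 e1.symm H2⟩

/-- isomorphisms over opens descend and ascend along cartesian squares -/
theorem isIso_restrict {A B C D Y Z : Scheme.{u}} {F : A ⟶ B} {g : A ⟶ C} {q : B ⟶ D} {p : C ⟶ D}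
    {g₂ : A ⟶ Y} {f : B ⟶ Z} {π : Y ⟶ Z} (H : IsPullback F g q p) (H' : IsPullback F g₂ f π)
    [Flat q] [Surjective q] [QuasiCompact q] (U : Z.Opens) (V : D.Opens) (hU : IsIso (π ∣_ U))
    (hV : q ⁻¹ᵁ V = f ⁻¹ᵁ U) : IsIso (p ∣_ V) := by
  obtain ⟨g', h1⟩ := exists_restrict H V
  obtain ⟨g'', h2⟩ := exists_restrict H' U
  have h3 : IsIso (F ∣_ (f ⁻¹ᵁ U)) :=
    (MorphismProperty.isomorphisms Scheme.{u}).of_isPullback h2.flip hU
  rw [← hV] at h3
  have h4 : Flat (q ∣_ V) := MorphismProperty.of_isPullback (isPullback_morphismRestrict q V).flip ‹_›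
  have h5 : Surjective (q ∣_ V) :=
    MorphismProperty.of_isPullback (P := @Surjective) (isPullback_morphismRestrict q V).flip ‹_›
  have h6 : QuasiCompact (q ∣_ V) :=
    MorphismProperty.of_isPullback (P := @QuasiCompact) (isPullback_morphismRestrict q V).flip ‹_›
  exact MorphismProperty.of_isPullback_of_descendsAlong
    (P := MorphismProperty.isomorphisms Scheme.{u}) h1 (CartDesc.fpqc (q ∣_ V)) h3

variable {S : Scheme.{u}} {G X : Over S} [GrpObj G]

omit [GrpObj G] in
theorem smooth_snd [Smooth G.hom] : Smooth (snd G X).left :=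
  inferInstanceAs (Smooth (pullback.snd G.hom X.hom))

omit [GrpObj G] in
theorem flat_snd [Flat G.hom] : Flat (snd G X).left :=
  inferInstanceAs (Flat (pullback.snd G.hom X.hom))

/-- the involution `(g, x) ↦ (g⁻¹, g x)` exchanges the action and the projection -/
theorem exists_swap (a : AlgGrp.Action G X) :
    ∃ θ : G ⊗ X ⟶ G ⊗ X, θ ≫ snd G X = a.act ∧ θ ≫ a.act = snd G X := by
  refine ⟨lift (fst G X)⁻¹ a.act, lift_snd _ _, ?_⟩
  have h := Pts.inv_dot_dot a (fst G X) (snd G X)
  rw [Pts.dot, Pts.dot, lift_fst_snd, Category.id_comp] at h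
  exact h

/-- invariance of the closure of a point -/
theorem preimage_closure (a : AlgGrp.Action G X) [Smooth G.hom] (x : X.left)
    (h : ∀ z : (G ⊗ X).left, (snd G X).left z = x → a.act.left z ∈ closure {x}) :
    ⇑a.act.left.base ⁻¹' closure {x} = ⇑(snd G X).left.base ⁻¹' closure {x} := by
  have h1 : ∀ z : (G ⊗ X).left, (snd G X).left z ∈ closure {x} → a.act.left z ∈ closure {x} := by
    have : Smooth (snd G X).left := smooth_snd
    have ho : IsOpenMap (snd G X).left := (snd G X).left.isOpenMap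
    intro z hz
    have hz' : z ∈ closure ((snd G X).left ⁻¹' {x}) := by
      rw [← ho.preimage_closure_eq_closure_preimage (snd G X).left.continuous]
      exact hz
    have hc : IsClosed (a.act.left ⁻¹' closure {x}) :=
      isClosed_closure.preimage a.act.left.continuous
    exact closure_minimal (s := (snd G X).left ⁻¹' {x}) (fun z hz => h z hz) hc hz'
  obtain ⟨θ, h2, h3⟩ := exists_swap a
  ext z
  constructor
  · intro hz
    have e1 : (snd G X).left (θ.left z) = a.act.left z := ResIso.app_eq (congrArg CommaMorphism.left h2) z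
    have e2 : a.act.left (θ.left z) = (snd G X).left z := ResIso.app_eq (congrArg CommaMorphism.left h3) z
    have h4 := h1 (θ.left z) (by rw [e1]; exact hz)
    rw [e2] at h4
    exact h4
  · intro hz
    exact h1 z hz

variable {Y Q : Over S}

theorem smooth_of_bundle (a : AlgGrp.Action G X) [Smooth G.hom] {φ : X ⟶ Q} (hφ : GIT.IsInvariant a φ)
    (hc : IsIso (GIT.PsiY a φ hφ)) [Flat φ.left] [Surjective φ.left] [QuasiCompact φ.left] :
    Smooth φ.left := by
  have H := Bundle.isPullback_left a φ hφ hc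
  have h1 : Smooth (snd G X).left := smooth_snd
  exact MorphismProperty.of_isPullback_of_descendsAlong (P := @Smooth) H.flip (CartDesc.fpqc φ.left) h1

theorem geometricallyIrreducible_of_bundle (a : AlgGrp.Action G X) [GeometricallyIrreducible G.hom]
    {φ : X ⟶ Q} (hφ : GIT.IsInvariant a φ) (hc : IsIso (GIT.PsiY a φ hφ)) [Surjective φ.left] :
    GeometricallyIrreducible φ.left := by
  have H := Bundle.isPullback_left a φ hφ hc
  have h1 : GeometricallyIrreducible (snd G X).left :=
    inferInstanceAs (GeometricallyIrreducible (pullback.snd G.hom X.hom))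
  have h2 : GeometricallyIrreducible (pullback.snd φ.left φ.left) := by
    rw [← H.isoPullback_inv_snd]
    have := MorphismProperty.IsStableUnderBaseChange.respectsIso (P := @GeometricallyIrreducible.{u})
    exact (MorphismProperty.cancel_left_of_respectsIso @GeometricallyIrreducible.{u} _ _).2 h1
  exact Groth.Agent.S4664.result φ.left φ.left

/-- in a torsor under a smooth connected group every point of the base has a generic point above it -/
theorem exists_generic {E B : Scheme.{u}} (q : E ⟶ B) [GeometricallyIrreducible q] (w : B) :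
    ∃ ξ : E, q ξ = w ∧ ∀ z : E, q z = w → ξ ⤳ z := by
  have h0 : ∀ v : q.fiber w, q (q.fiberι w v) = w := by
    intro v
    have : q.fiberι w v ∈ Set.range (q.fiberι w) := ⟨v, rfl⟩
    rw [Scheme.Hom.range_fiberι] at this
    exact this
  refine ⟨q.fiberι w (genericPoint (q.fiber w)), h0 _, ?_⟩
  intro z hz
  have : z ∈ Set.range (q.fiberι w) := by rw [Scheme.Hom.range_fiberι]; exact hz
  obtain ⟨v, rfl⟩ := this
  exact (genericPoint_specializes v).map (q.fiberι w).continuous

/-- points with trivial residue field extension of the induced morphism of quotients -/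
theorem exists_point {Xt U XG XtG : Over S} [Smooth G.hom] [GeometricallyIrreducible G.hom]
    (a : AlgGrp.Action G X) (at' : AlgGrp.Action G Xt) (b : AlgGrp.Action G U) (π : Xt ⟶ X)
    (hπ : AlgGrp.Action.IsEquivariant at' a π) [LocallyOfFiniteType π.left]
    (henvG : ∀ x : X.left, ⇑a.act.left.base ⁻¹' closure {x} = ⇑(snd G X).left.base ⁻¹' closure {x} →
      ∃ y : Xt.left, π.left.base y = x ∧ IsIso (π.left.residueFieldMap y) ∧
        ⇑at'.act.left.base ⁻¹' closure {y} = ⇑(snd G Xt).left.base ⁻¹' closure {y})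
    (qX : X ⊗ U ⟶ XG) (hqX : GIT.IsInvariant (a.prod b) qX) [Flat qX.left] [Surjective qX.left]
    [QuasiCompact qX.left] (hcX : IsIso (GIT.PsiY (a.prod b) qX hqX))
    (qXt : Xt ⊗ U ⟶ XtG) (hqXt : GIT.IsInvariant (at'.prod b) qXt) [Flat qXt.left] [Surjective qXt.left]
    [QuasiCompact qXt.left] (hcXt : IsIso (GIT.PsiY (at'.prod b) qXt hqXt))
    (p : XtG ⟶ XG) (hp : qXt ≫ p = (π ▷ U) ≫ qX) (w : XG.left) :
    ∃ v : XtG.left, p.left.base v = w ∧ IsIso (p.left.residueFieldMap v) := by
  have hsm := smooth_of_bundle (a.prod b) hqX hcX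
  have hred : GeometricallyReduced qX.left := Groth.Agent.Flat2B.SmoothGeom.geometricallyReduced_of_smooth _
  have hirr := geometricallyIrreducible_of_bundle (a.prod b) hqX hcX
  obtain ⟨ξ, hξ, hgen⟩ := exists_generic qX.left w
  -- the square of the torsors
  have HA : IsPullback (π ▷ U).left qXt.left qX.left p.left :=
    Cart.isPullback_of_equivariant (at'.prod b) (a.prod b) (π ▷ U)
      (CartDesc.isEquivariant_whiskerRight b hπ) qXt hqXt hcXt qX hqX hcX p hp.symm
  have HB : IsPullback (π ▷ U).left (fst Xt U).left (fst X U).left π.left :=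
    CartDesc.isPullback_whiskerRight_left π U
  have HX : IsPullback (a.prod b).act.left (snd G (X ⊗ U)).left qX.left qX.left :=
    Bundle.isPullback_left _ _ hqX hcX
  have HXt : IsPullback (at'.prod b).act.left (snd G (Xt ⊗ U)).left qXt.left qXt.left :=
    Bundle.isPullback_left _ _ hqXt hcXt
  have wX : (G ◁ fst X U).left ≫ a.act.left = (a.prod b).act.left ≫ (fst X U).left := by
    rw [← Over.comp_left, ← Over.comp_left, AlgGrp.Action.prod_act, lift_fst]
  have wXt : (G ◁ fst Xt U).left ≫ at'.act.left = (at'.prod b).act.left ≫ (fst Xt U).left := by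
    rw [← Over.comp_left, ← Over.comp_left, AlgGrp.Action.prod_act, lift_fst]
  have wXt' : (G ◁ fst Xt U).left ≫ (snd G Xt).left = (snd G (Xt ⊗ U)).left ≫ (fst Xt U).left := by
    rw [← Over.comp_left, ← Over.comp_left, whiskerLeft_snd]
  -- invariance of the closure of the image of the generic point
  have hinv := preimage_closure a ((fst X U).left ξ) (by
    intro z hz
    obtain ⟨z', h1, h2⟩ := exists_of_isPullback (Cart.isPullback_whisker_left (G := G) (fst X U)) z ξ hz
    have h3 : a.act.left z = (fst X U).left ((a.prod b).act.left z') := by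
      rw [← h1, ResIso.app_eq wX, Scheme.Hom.comp_apply]
    have h4 : qX.left ((a.prod b).act.left z') = w := by
      rw [ResIso.app_eq HX.w, Scheme.Hom.comp_apply, h2, hξ]
    rw [h3]
    exact ((hgen _ h4).map (fst X U).left.continuous).mem_closure)
  obtain ⟨y, hy1, hy2, hy3⟩ := henvG _ hinv
  obtain ⟨z, hz1, hz2, hz3, hz4⟩ := ResIso.exists_point HB ξ y hy1.symm hy2
  subst hz1
  subst hz2
  refine ⟨qXt.left z, ?_, ?_⟩
  · exact (comm_app HA.w z).symm.trans hξ
  · apply ResIso.isIso_residueFieldMap HA z hz4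
    · exact GenRed.geometricallyReduced_residueFieldMap qX.left _ (by rw [hξ]; exact hgen)
    · intro z' h1 h2
      apply hz3 z' h1
      obtain ⟨t, ht1, ht2⟩ := exists_of_isPullback HXt z' z h2
      have e1 : at'.act.left ((G ◁ fst Xt U).left t) = (fst Xt U).left z' := by
        rw [ResIso.app_eq wXt, Scheme.Hom.comp_apply, ht1]
      have e2 : (snd G Xt).left ((G ◁ fst Xt U).left t) = (fst Xt U).left z := by
        rw [ResIso.app_eq wXt', Scheme.Hom.comp_apply, ht2]
      have e3 : (G ◁ fst Xt U).left t ∈ ⇑(snd G Xt).left.base ⁻¹' closure {(fst Xt U).left z} := by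
        rw [Set.mem_preimage]
        rw [e2]
        exact subset_closure rfl
      rw [← hy3] at e3
      have e4 : (fst Xt U).left z' ∈ closure {(fst Xt U).left z} := by
        rw [← e1]
        exact e3
      have e5 : (fst Xt U).left z ⤳ (fst Xt U).left z' := specializes_iff_mem_closure.2 e4
      have e6 : π.left ((fst Xt U).left z) = π.left ((fst Xt U).left z') := by
        rw [← comm_app HB.w z, ← comm_app HB.w z', h1]
      exact (ResIso.eq_of_specializes π.left e5 e6 hy2).symm

end K590.Envel
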