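import Mathlib.LinearAlgebra.TensorProduct.Basic
import Mathlib.RingTheory.TensorProduct.Basic
import Mathlib.LinearAlgebra.Dual.Lemmas
import Mathlib.RingTheory.LocalRing.ResidueField.Ideal
import Mathlib.RingTheory.Nilpotent.Lemmas
import Mathlib.RingTheory.TensorProduct.Maps

/-!
# A field extension `K/k` all of whose elements are hit by `L` inside `M` is trivial

`K590.FieldAlg.surjective`: `L/k`, `K/k` field extensions with `L ⊗ K` reduced, both mapping to a
field `M` through which every compatible pair `L → N ← K` factors, `L → M` onto: then `k = K`.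
-/

set_option autoImplicit false
universe u
open TensorProduct

namespace K590.FieldAlg

variable {k L K M : Type u} [Field k] [Field L] [Field K] [Field M] [Algebra k L] [Algebra k K]

omit [Field M] in
theorem mem_range_of_tmul_eq {l : L} {a : K} (h : l ⊗ₜ[k] (1 : K) = (1 : L) ⊗ₜ[k] a) :
    a ∈ (algebraMap k K).range := by
  by_contra ha
  have h1 : a ∉ Submodule.span k {(1 : K)} := by
    rintro hm
    obtain ⟨c, hc⟩ := Submodule.mem_span_singleton.1 hm
    exact ha ⟨c, by rw [Algebra.algebraMap_eq_smul_one]; exact hc⟩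
  obtain ⟨φ, hφ, hφ'⟩ := Submodule.exists_le_ker_of_notMem h1
  have h2 : φ 1 = 0 := hφ' (Submodule.subset_span rfl)
  have h3 := congrArg (fun t => TensorProduct.rid k L (LinearMap.lTensor L φ t)) h
  simp only [LinearMap.lTensor_tmul, TensorProduct.rid_tmul, h2, zero_smul] at h3
  rw [← Algebra.algebraMap_eq_smul_one] at h3
  exact hφ ((map_eq_zero _).1 h3.symm)

theorem surjective (c : L →+* M) (d : K →+* M) (hc : Function.Surjective c)
    (hred : IsReduced (L ⊗[k] K))
    (hN : ∀ (N : Type u) [Field N] (c' : L →+* N) (d' : K →+* N),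
      c'.comp (algebraMap k L) = d'.comp (algebraMap k K) →
        ∃ e : M →+* N, e.comp c = c' ∧ e.comp d = d') :
    Function.Surjective (algebraMap k K) := by
  intro a
  obtain ⟨l, hl⟩ := hc (d a)
  have key : l ⊗ₜ[k] (1 : K) - (1 : L) ⊗ₜ[k] a = 0 := by
    have hnil : IsNilpotent (l ⊗ₜ[k] (1 : K) - (1 : L) ⊗ₜ[k] a) := by
      rw [nilpotent_iff_mem_prime]
      intro P hP
      let N := P.ResidueField
      let c' : L →+* N := (algebraMap (L ⊗[k] K) N).comp Algebra.TensorProduct.includeLeftRingHom
      let d' : K →+* N := (algebraMap (L ⊗[k] K) N).comp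
        (Algebra.TensorProduct.includeRight : K →ₐ[k] L ⊗[k] K).toRingHom
      obtain ⟨e, he1, he2⟩ := hN N c' d' (by
        ext x
        have hx : (algebraMap k L x) ⊗ₜ[k] (1 : K) = (1 : L) ⊗ₜ[k] (algebraMap k K x) := by
          rw [Algebra.algebraMap_eq_smul_one (A := L), Algebra.algebraMap_eq_smul_one (A := K),
            TensorProduct.smul_tmul]
        exact congrArg (algebraMap (L ⊗[k] K) N) hx)
      have h1 : algebraMap (L ⊗[k] K) N (l ⊗ₜ[k] (1 : K) - (1 : L) ⊗ₜ[k] a) = 0 := by
        rw [map_sub, sub_eq_zero]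
        have e1 : algebraMap (L ⊗[k] K) N (l ⊗ₜ[k] (1 : K)) = c' l := rfl
        have e2 : algebraMap (L ⊗[k] K) N ((1 : L) ⊗ₜ[k] a) = d' a := rfl
        rw [e1, e2, ← he1, ← he2, RingHom.comp_apply, RingHom.comp_apply, hl]
      exact Ideal.algebraMap_residueField_eq_zero.1 h1
    exact hnil.eq_zero
  exact mem_range_of_tmul_eq (sub_eq_zero.1 key)

end K590.FieldAlg
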