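import Groth.Agent.EqInt.K590.FieldAlg
import Mathlib.AlgebraicGeometry.Geometrically.Reduced
import Mathlib.AlgebraicGeometry.ResidueField
import Mathlib.AlgebraicGeometry.Fiber
import Mathlib.AlgebraicGeometry.Morphisms.Finite

/-!
# Points of cartesian squares and residue fields

* `exists_point`: in a cartesian square, over `(η, y)` with `κ(y) = κ(x)` there is exactly one point,
  and it has the residue field of `η`.
* `isIso_residueFieldMap`: descent of "trivial residue field extension" along a cartesian square
  whose vertical map has separable residue extension at the point.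
* `eq_of_specializes`: a point with trivial residue field extension is closed in its fibre.
-/

set_option autoImplicit false
universe u
open CategoryTheory CategoryTheory.Limits AlgebraicGeometry TensorProduct

namespace K590.ResIso

/-- morphisms from the spectrum of a field factor through the residue field of their image -/
theorem exists_desc {N : Type u} [Field N] {X : Scheme.{u}} (m : Spec (CommRingCat.of N) ⟶ X) (x : X)
    (hx : m (IsLocalRing.closedPoint N) = x) :
    ∃ e : X.residueField x ⟶ CommRingCat.of N, Spec.map e ≫ X.fromSpecResidueField x = m := by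
  subst hx
  exact ⟨_, Scheme.descResidueField_stalkClosedPointTo_fromSpecResidueField N X m⟩

theorem app_eq {X Y Z : Scheme.{u}} {f : X ⟶ Y} {g : Y ⟶ Z} {h : X ⟶ Z} (e : f ≫ g = h) (x : X) :
    g (f x) = h x := by
  rw [← e, Scheme.Hom.comp_apply]

/-- the image point of a morphism through a residue field -/
theorem app_res {R : CommRingCat.{u}} {X : Scheme.{u}} {x : X}
    (e : Spec R ⟶ Spec (X.residueField x)) (t : Spec R) :
    (e ≫ X.fromSpecResidueField x) t = x := by
  rw [Scheme.Hom.comp_apply, Scheme.fromSpecResidueField_apply]

variable {E Et B Bt : Scheme.{u}} {F : Et ⟶ E} {qt : Et ⟶ Bt} {q : E ⟶ B} {p : Bt ⟶ B}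

theorem isIso_residueFieldMap (H : IsPullback F qt q p) (z : Et) (hF : IsIso (F.residueFieldMap z))
    (hred : GeometricallyReduced (Spec.map (q.residueFieldMap (F z))))
    (huniq : ∀ z' : Et, F z' = F z → qt z' = qt z → z' = z) :
    IsIso (p.residueFieldMap (qt z)) := by
  have h : p (qt z) = q (F z) := by
    rw [← Scheme.Hom.comp_apply, ← Scheme.Hom.comp_apply, H.w]
  -- the field `k = κ(w)`
  let k : Type u := B.residueField (p (qt z))
  let L : Type u := E.residueField (F z)
  let K : Type u := Bt.residueField (qt z)
  let M : Type u := Et.residueField z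
  let β : B.residueField (p (qt z)) ⟶ E.residueField (F z) :=
    (B.residueFieldCongr h).hom ≫ q.residueFieldMap (F z)
  let α : B.residueField (p (qt z)) ⟶ Bt.residueField (qt z) := p.residueFieldMap (qt z)
  have hβ : Spec.map β ≫ B.fromSpecResidueField _ = E.fromSpecResidueField (F z) ≫ q := by
    rw [Spec.map_comp, Category.assoc, Scheme.residueFieldCongr_fromSpecResidueField,
      Scheme.Hom.SpecMap_residueFieldMap_fromSpecResidueField]
  have hα : Spec.map α ≫ B.fromSpecResidueField _ = Bt.fromSpecResidueField (qt z) ≫ p :=
    Scheme.Hom.SpecMap_residueFieldMap_fromSpecResidueField _ _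
  let aL : Algebra k L := β.hom.toAlgebra
  let aK : Algebra k K := α.hom.toAlgebra
  have hredβ : GeometricallyReduced (Spec.map β) := by
    rw [Spec.map_comp]
    have := MorphismProperty.IsStableUnderBaseChange.respectsIso (P := @GeometricallyReduced.{u})
    exact (MorphismProperty.cancel_right_of_respectsIso @GeometricallyReduced.{u} _ _).2 hred
  have hD : IsReduced (L ⊗[k] K) := by
    have h1 : IsPullback _ _ (Spec.map (CommRingCat.ofHom (algebraMap k L)))
        (Spec.map (CommRingCat.ofHom (algebraMap k K))) :=
      isPullback_SpecMap_of_isPushout _ _ _ _ (CommRingCat.isPushout_tensorProduct k L K)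
    have h2 := hredβ.geometrically_isReduced _ _ _ h1
    exact (affine_isReduced_iff _).1 h2
  have hsurj : Function.Surjective (algebraMap k K) := by
    refine FieldAlg.surjective (M := M) (F.residueFieldMap z).hom (qt.residueFieldMap z).hom ?_ hD ?_
    · exact ((ConcreteCategory.isIso_iff_bijective _).1 hF).2
    · intro N _ c' d' hcd
      have hcd' : β ≫ CommRingCat.ofHom c' = α ≫ CommRingCat.ofHom d' := CommRingCat.hom_ext hcd
      let m : Spec (CommRingCat.of N) ⟶ Et := H.lift
        (Spec.map (CommRingCat.ofHom c') ≫ E.fromSpecResidueField (F z))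
        (Spec.map (CommRingCat.ofHom d') ≫ Bt.fromSpecResidueField (qt z)) (by
          rw [Category.assoc, Category.assoc, ← hβ, ← hα, ← Spec.map_comp_assoc, ← Spec.map_comp_assoc]
          exact congrArg (fun t => Spec.map t ≫ B.fromSpecResidueField (p (qt z))) hcd')
      have m1 : m ≫ F = Spec.map (CommRingCat.ofHom c') ≫ E.fromSpecResidueField (F z) := H.lift_fst _ _ _
      have m2 : m ≫ qt = Spec.map (CommRingCat.ofHom d') ≫ Bt.fromSpecResidueField (qt z) := H.lift_snd _ _ _
      have hz : m (IsLocalRing.closedPoint N) = z :=
        huniq _ ((app_eq m1 _).trans (app_res _ _)) ((app_eq m2 _).trans (app_res _ _))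
      obtain ⟨e, he⟩ := exists_desc m z hz
      refine ⟨e.hom, ?_, ?_⟩
      · have : F.residueFieldMap z ≫ e = CommRingCat.ofHom c' := by
          apply Spec.map_injective
          rw [← cancel_mono (E.fromSpecResidueField (F z)), Spec.map_comp, Category.assoc,
            Scheme.Hom.SpecMap_residueFieldMap_fromSpecResidueField, reassoc_of% he, m1]
        exact congrArg CommRingCat.Hom.hom this
      · have : qt.residueFieldMap z ≫ e = CommRingCat.ofHom d' := by
          apply Spec.map_injective
          rw [← cancel_mono (Bt.fromSpecResidueField (qt z)), Spec.map_comp, Category.assoc,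
            Scheme.Hom.SpecMap_residueFieldMap_fromSpecResidueField, reassoc_of% he, m2]
        exact congrArg CommRingCat.Hom.hom this
  exact (ConcreteCategory.isIso_iff_bijective _).2 ⟨RingHom.injective _, hsurj⟩

/-- in a cartesian square the points over `(η, y)` with `κ(y) = κ(x)` -/
theorem exists_point (H : IsPullback F qt q p) (η : E) (y : Bt) (h : q η = p y)
    (hy : IsIso (p.residueFieldMap y)) :
    ∃ z : Et, F z = η ∧ qt z = y ∧ (∀ z', F z' = η → qt z' = y → z' = z) ∧
      IsIso (F.residueFieldMap z) := by
  have hp : (Spec.map (p.residueFieldMap y)) ≫ B.fromSpecResidueField _ = Bt.fromSpecResidueField y ≫ p :=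
    Scheme.Hom.SpecMap_residueFieldMap_fromSpecResidueField _ _
  let r : Spec (E.residueField η) ⟶ Spec (Bt.residueField y) :=
    Spec.map (q.residueFieldMap η) ≫ Spec.map (B.residueFieldCongr h.symm).hom ≫
      inv (Spec.map (p.residueFieldMap y))
  have hr : r ≫ Bt.fromSpecResidueField y ≫ p = E.fromSpecResidueField η ≫ q := by
    rw [← hp, Category.assoc, Category.assoc, IsIso.inv_hom_id_assoc,
      Scheme.residueFieldCongr_fromSpecResidueField,
      Scheme.Hom.SpecMap_residueFieldMap_fromSpecResidueField]
  let s : Spec (E.residueField η) ⟶ Et := H.lift (E.fromSpecResidueField η)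
    (r ≫ Bt.fromSpecResidueField y) (by rw [Category.assoc, hr])
  have s1 : s ≫ F = E.fromSpecResidueField η := H.lift_fst _ _ _
  have s2 : s ≫ qt = r ≫ Bt.fromSpecResidueField y := H.lift_snd _ _ _
  let z : Et := s (IsLocalRing.closedPoint _)
  have hz1 : F z = η := (app_eq s1 _).trans (Scheme.fromSpecResidueField_apply _ _)
  have hz2 : qt z = y := (app_eq s2 _).trans (app_res _ _)
  refine ⟨z, hz1, hz2, ?_, ?_⟩
  · intro z' h1 h2
    let t : Spec (Et.residueField z') ⟶ Et :=
      Spec.map (F.residueFieldMap z') ≫ Spec.map (E.residueFieldCongr h1.symm).hom ≫ s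
    have t1 : Spec.map (F.residueFieldMap z') ≫ Spec.map (E.residueFieldCongr h1.symm).hom ≫
        E.fromSpecResidueField η = Et.fromSpecResidueField z' ≫ F := by
      rw [Scheme.residueFieldCongr_fromSpecResidueField,
        Scheme.Hom.SpecMap_residueFieldMap_fromSpecResidueField]
    have t2 : Spec.map (qt.residueFieldMap z') ≫ Spec.map (Bt.residueFieldCongr h2.symm).hom ≫
        Bt.fromSpecResidueField y = Et.fromSpecResidueField z' ≫ qt := by
      rw [Scheme.residueFieldCongr_fromSpecResidueField,
        Scheme.Hom.SpecMap_residueFieldMap_fromSpecResidueField]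
    have t3 : Spec.map (F.residueFieldMap z') ≫ Spec.map (E.residueFieldCongr h1.symm).hom ≫ r =
        Spec.map (qt.residueFieldMap z') ≫ Spec.map (Bt.residueFieldCongr h2.symm).hom := by
      rw [← cancel_mono (Spec.map (p.residueFieldMap y)), ← cancel_mono (B.fromSpecResidueField _)]
      simp only [Category.assoc]
      rw [hp, hr, reassoc_of% t1, reassoc_of% t2, H.w]
    have ht : t = Et.fromSpecResidueField z' := by
      apply H.hom_ext
      · rw [← t1]
        simp only [t, Category.assoc, s1]
      · rw [← t2]
        simp only [t, Category.assoc, s2]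
        rw [← Category.assoc, ← Category.assoc, Category.assoc (Spec.map (F.residueFieldMap z')), t3,
          Category.assoc]
    have e1 : Et.fromSpecResidueField z' (IsLocalRing.closedPoint _) = z' :=
      Scheme.fromSpecResidueField_apply _ _
    rw [← e1, ← ht]
    have hsub : Subsingleton (Spec (E.residueField η)) :=
      inferInstanceAs (Subsingleton (PrimeSpectrum (E.residueField η)))
    refine (app_eq (h := t) (f := Spec.map (F.residueFieldMap z') ≫
      Spec.map (E.residueFieldCongr h1.symm).hom) (g := s) (Category.assoc _ _ _) _).symm.trans ?_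
    exact congrArg s (Subsingleton.elim _ _)
  · obtain ⟨e, he⟩ := exists_desc (N := E.residueField η) s z rfl
    have h1 : F.residueFieldMap z ≫ e = (E.residueFieldCongr hz1).hom := by
      apply Spec.map_injective
      rw [← cancel_mono (E.fromSpecResidueField (F z)), Spec.map_comp, Category.assoc,
        Scheme.Hom.SpecMap_residueFieldMap_fromSpecResidueField, reassoc_of% he, s1]
      exact (Scheme.residueFieldCongr_fromSpecResidueField _).symm
    have h2 : IsIso (F.residueFieldMap z ≫ e) := by rw [h1]; infer_instance
    have h3 : IsIso e := by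
      refine (ConcreteCategory.isIso_iff_bijective _).2 ⟨RingHom.injective e.hom, ?_⟩
      intro a
      obtain ⟨b, hb⟩ := ((ConcreteCategory.isIso_iff_bijective _).1 h2).2 a
      exact ⟨F.residueFieldMap z b, hb⟩
    exact IsIso.of_isIso_comp_right _ e

/-- a point with trivial residue field extension is closed in its fibre -/
theorem eq_of_specializes {X Y : Scheme.{u}} (f : X ⟶ Y) [LocallyOfFiniteType f] {y y' : X}
    (hs : y ⤳ y') (h : f y = f y') (hy : IsIso (f.residueFieldMap y)) : y = y' := by
  have h1 : LocallyOfFiniteType (f.asFiberHom y) := by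
    have : LocallyOfFiniteType (f.asFiberHom y ≫ f.fiberToSpecResidueField (f y)) := by
      rw [Scheme.Hom.asFiberHom_fiberToSpecResidueField]
      infer_instance
    exact locallyOfFiniteType_of_comp _ (f.fiberToSpecResidueField (f y))
  have h2 : IsClosed {f.asFiber y} := by
    have h3 : IsClosed {f.asFiberHom y (IsLocalRing.closedPoint _)} :=
      (f.asFiberHom y).closePoints_subset_preimage_closedPoints
      (IsLocalRing.isClosed_singleton_closedPoint _)
    have h3' : f.asFiberHom y (IsLocalRing.closedPoint _) = f.asFiber y :=
      Scheme.Hom.asFiberHom_apply _ _ _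
    rwa [h3'] at h3
  have h4 : y' ∈ Set.range (f.fiberι (f y)) := by
    rw [Scheme.Hom.range_fiberι]; exact h.symm
  obtain ⟨v, hv⟩ := h4
  have h5 : f.asFiber y ⤳ v := by
    rw [← (f.fiberι (f y)).isEmbedding.isInducing.specializes_iff, Scheme.Hom.fiberι_asFiber, hv]
    exact hs
  have h6 : v = f.asFiber y := h5.mem_closed h2 rfl
  rw [← hv, h6, Scheme.Hom.fiberι_asFiber]

end K590.ResIso
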