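import Groth.Agent.VarietyA.StalkBC
import Groth.Agent.EqInt.K590.ResIso
import Mathlib.AlgebraicGeometry.Geometrically.Irreducible
import Mathlib.AlgebraicGeometry.FunctionField

/-!
# Residue extension at the generic point of a geometrically reduced irreducible fibre

`K590.GenRed.geometricallyReduced_residueFieldMap`.
-/

set_option autoImplicit false
universe u
open CategoryTheory CategoryTheory.Limits AlgebraicGeometry

namespace K590.GenRed

open Groth.Agent.VarietyA.StalkBC

/-- a flat monomorphism into a reduced scheme has reduced source -/
theorem isReduced_of_flat_mono {Z X : Scheme.{u}} (f : Z ⟶ X) [Flat f] [Mono f] [IsReduced X] :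
    IsReduced Z := by
  have : ∀ z : Z, _root_.IsReduced (Z.presheaf.stalk z) := by
    intro z
    have h := isIso_stalkMap_of_flat_of_mono f z
    exact isReduced_of_injective (inv (f.stalkMap z)).hom
      ((ConcreteCategory.isIso_iff_bijective _).1 inferInstance).1
  exact isReduced_of_isReduced_stalk Z

/-- geometric reducedness passes through flat monomorphisms -/
theorem geometricallyReduced_comp {Z X S : Scheme.{u}} (f : Z ⟶ X) (h : X ⟶ S) [Flat f] [Mono f]
    [GeometricallyReduced h] : GeometricallyReduced (f ≫ h) := by
  refine ⟨?_⟩
  rw [geometrically_iff_of_isClosedUnderIsomorphisms]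
  intro K _ y
  have hp := IsPullback.of_hasPullback (f ≫ h) y
  have hq := IsPullback.of_hasPullback h y
  let g : pullback (f ≫ h) y ⟶ pullback h y := hq.lift (pullback.fst _ _ ≫ f) (pullback.snd _ _)
    (by rw [Category.assoc]; exact pullback.condition)
  have hg : IsPullback (pullback.fst (f ≫ h) y) g f (pullback.fst h y) :=
    IsPullback.of_right (h₁₁ := g) (by simpa [g] using hp.flip) (by simp [g]) hq.flip |>.flip
  have h1 : Flat g := MorphismProperty.of_isPullback hg ‹_›
  have h2 : Mono g := (MorphismProperty.monomorphisms Scheme.{u}).of_isPullback hg ‹Mono f›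
  have h3 : IsReduced (pullback h y) := pullback_of_geometrically
    (GeometricallyReduced.geometrically_isReduced (f := h)) K y
  exact isReduced_of_flat_mono g

theorem isField_stalk {P : Scheme.{u}} [IsIntegral P] (x : P) (hx : ∀ z : P, x ⤳ z) :
    IsField (P.presheaf.stalk x) := by
  have h : x = genericPoint P := ((genericPoint_specializes x).antisymm (hx _)).eq.symm
  rw [h]
  exact Field.toIsField P.functionField

theorem flat_of_isField {R S : Type u} [CommRing R] [CommRing S] (f : R →+* S) (h : IsField R) :
    f.Flat := by
  letI := f.toAlgebra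
  change Module.Flat R S
  letI := h.toField
  exact @Module.Flat.of_free R S _ _ _ (Module.Free.of_divisionRing R S)

theorem geometricallyReduced_residueFieldMap {E B : Scheme.{u}} (q : E ⟶ B) [GeometricallyReduced q]
    (η : E) [IrreducibleSpace (q.fiber (q η))] (hη : ∀ z : E, q z = q η → η ⤳ z) :
    GeometricallyReduced (Spec.map (q.residueFieldMap η)) := by
  rw [← Scheme.Hom.asFiberHom_fiberToSpecResidueField]
  have hint : IsIntegral (q.fiber (q η)) := isIntegral_of_irreducibleSpace_of_isReduced _
  have hx : ∀ z : q.fiber (q η), q.asFiber η ⤳ z := by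
    intro z
    rw [← (q.fiberι (q η)).isEmbedding.isInducing.specializes_iff, Scheme.Hom.fiberι_asFiber]
    apply hη
    have : q.fiberι (q η) z ∈ Set.range (q.fiberι (q η)) := ⟨z, rfl⟩
    rw [Scheme.Hom.range_fiberι] at this
    exact this
  have hfl : Flat (q.asFiberHom η) := by
    have e1 := Scheme.Spec_stalkClosedPointTo_fromSpecStalk (q.asFiberHom η)
    rw [← e1]
    have hF : IsField ((q.fiber (q η)).presheaf.stalk (q.asFiberHom η (IsLocalRing.closedPoint _))) := by
      apply isField_stalk
      intro z
      have e2 : q.asFiberHom η (IsLocalRing.closedPoint _) = q.asFiber η :=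
        Scheme.Hom.asFiberHom_apply _ _ _
      rw [e2]
      exact hx z
    have : Flat (Spec.map (Scheme.stalkClosedPointTo (q.asFiberHom η))) := by
      rw [Flat.SpecMap_iff]
      exact flat_of_isField _ hF
    infer_instance
  exact geometricallyReduced_comp _ _

end K590.GenRed
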